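import Cfsg.Agent.H776.P4.Stmts

/-!
# S5210, q = 3: coordinates on `Q / Z` (helper753)

`K` has nine elements, `ι² = -1`; `Q/Z = K × K` has `F₃`-coordinates; every automorphism of `Q` acts by a `4 × 4` matrix.
-/

set_option autoImplicit false

namespace Cfsg.Agent.H753.P4

open Cfsg Cfsg.FusionSystem Cfsg.Agent.H776.P4
open Cfsg.Agent.H756.PU (HypK NormAut)

universe u

/-- matrices over `F₃` -/
abbrev Mat := Matrix (Fin 4) (Fin 4) (ZMod 3)

section
variable {K : Type u} [Field K] [StarRing K]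

/-- the field with nine elements -/
structure F9 (ι : K) : Prop where
  fin : Finite K
  card : Nat.card K = 9
  st : ∀ x : K, star x = x ^ 3
  sq : ι * ι = -1

variable [CharP K 3]

variable (K) in
/-- the prime field -/
abbrev cs : ZMod 3 →+* K := ZMod.castHom (dvd_refl 3) K

/-- `a + b ι` -/
def el (ι : K) (a b : ZMod 3) : K := cs K a + cs K b * ι

omit [StarRing K] in
theorem three_eq : (3 : K) = 0 := by
  have := CharP.cast_eq_zero K 3
  exact_mod_cast this

omit [StarRing K] in
theorem cs_inj {a b : ZMod 3} (h : cs K a = cs K b) : a = b := (cs K).injective h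

variable {ι : K} (h9 : F9 ι)

include h9

theorem star_cs (a : ZMod 3) : star (cs K a) = cs K a := by
  rw [h9.st, ← map_pow]
  congr 1
  revert a
  decide

theorem star_io : star ι = - ι := by
  rw [h9.st]
  linear_combination ι * h9.sq

theorem star_el (a b : ZMod 3) : star (el ι a b) = el ι a (-b) := by
  unfold el
  rw [star_add, star_mul', star_cs h9, star_cs h9, star_io h9, map_neg]
  ring

theorem el_inj {a b a' b' : ZMod 3} (h : el ι a b = el ι a' b') : a = a' ∧ b = b' := by
  unfold el at h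
  have h1 : cs K (a - a') = cs K (b' - b) * ι := by
    rw [map_sub, map_sub]
    linear_combination h
  have hb : b = b' := by
    by_contra hb
    have hb' : b' - b ≠ 0 := sub_ne_zero.2 (Ne.symm hb)
    have hk : cs K (b' - b) ≠ 0 := by
      intro h0
      exact hb' (cs_inj (h0.trans (map_zero _).symm))
    have h2 : cs K ((a - a') * (a - a')) = cs K (-((b' - b) * (b' - b))) := by
      rw [map_mul, map_neg, map_mul, h1]
      linear_combination (cs K (b' - b)) ^ 2 * h9.sq
    have h3 := cs_inj h2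
    revert h3
    generalize a - a' = x
    generalize hy : b' - b = y at hb' ⊢
    revert hb'
    clear hk hy h1 h2 h hb
    revert x y
    decide
  refine ⟨?_, hb⟩
  rw [hb, sub_self, map_zero, zero_mul] at h1
  exact sub_eq_zero.1 (cs_inj (h1.trans (map_zero _).symm))

theorem el_surj (x : K) : ∃ a b, x = el ι a b := by
  have hf := h9.fin
  have hinj : Function.Injective (fun y : ZMod 3 × ZMod 3 => el ι y.1 y.2) := by
    rintro ⟨a, b⟩ ⟨a', b'⟩ h
    obtain ⟨h1, h2⟩ := el_inj h9 h
    exact Prod.ext h1 h2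
  have hc : Nat.card (ZMod 3 × ZMod 3) = Nat.card K := by
    rw [h9.card, Nat.card_prod, Nat.card_zmod]
  have hs := (Function.Injective.bijective_of_nat_card_le hinj hc.ge).2
  obtain ⟨⟨a, b⟩, h⟩ := hs x
  exact ⟨a, b, h.symm⟩

theorem fixed {x : K} (hx : star x = x) : ∃ a, x = cs K a := by
  obtain ⟨a, b, rfl⟩ := el_surj h9 x
  rw [star_el h9] at hx
  have h1 := (el_inj h9 hx).2
  have h2 : b = 0 := by
    revert h1
    clear hx
    revert b
    decide
  refine ⟨a, ?_⟩
  unfold el
  rw [h2, map_zero, zero_mul, add_zero]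

omit h9

/-- the coordinates of an element of `Q` modulo `Z` -/
def Co (ι : K) (g : PG K) (v : Fin 4 → ZMod 3) : Prop := g.r = el ι (v 0) (v 1) ∧ g.b = el ι (v 2) (v 3)

include h9

theorem co_unique {g : PG K} {v w : Fin 4 → ZMod 3} (hv : Co ι g v) (hw : Co ι g w) : v = w := by
  obtain ⟨h1, h2⟩ := el_inj h9 (hv.1.symm.trans hw.1)
  obtain ⟨h3, h4⟩ := el_inj h9 (hv.2.symm.trans hw.2)
  funext i
  fin_cases i <;> assumption

theorem co_exists (g : PG K) : ∃ v, Co ι g v := by
  obtain ⟨a, b, h1⟩ := el_surj h9 g.r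
  obtain ⟨c, d, h2⟩ := el_surj h9 g.b
  exact ⟨![a, b, c, d], h1, h2⟩

omit h9

/-- an element with given coordinates -/
def mk (ι : K) (v : Fin 4 → ZMod 3) : PQ K :=
  ⟨{ r := el ι (v 0) (v 1), a := 0, b := el ι (v 2) (v 3), c := 0, ha := by simp, hc := by simp }, rfl⟩

theorem co_mk (v : Fin 4 → ZMod 3) : Co ι (mk ι v : PG K) v := ⟨rfl, rfl⟩

theorem el_add (a b a' b' : ZMod 3) : el ι (a + a') (b + b') = el ι a b + el ι a' b' := by
  unfold el
  rw [map_add, map_add]
  ring

theorem co_mul {x y : PQ K} {v w : Fin 4 → ZMod 3} (hv : Co ι (x : PG K) v) (hw : Co ι (y : PG K) w) :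
    Co ι ((x * y : PQ K) : PG K) (v + w) := by
  have hy : (y : PG K).c = 0 := y.2
  constructor
  · rw [Subgroup.coe_mul, PG.mul_r, hv.1, hw.1, Pi.add_apply, Pi.add_apply, el_add]
  · rw [Subgroup.coe_mul, PG.mul_b, hv.2, hw.2, hy, mul_zero, add_zero, Pi.add_apply, Pi.add_apply, el_add]

/-- `γ` acts as `M` on `Q/Z` -/
def Acts (ι : K) (γ : MulAut (PQ K)) (M : Mat) : Prop :=
  ∀ (e : PQ K) (v : Fin 4 → ZMod 3), Co ι (e : PG K) v → Co ι ((γ e : PQ K) : PG K) (M.mulVec v)

theorem Acts.mul {γ γ' : MulAut (PQ K)} {M M' : Mat} (h : Acts ι γ M) (h' : Acts ι γ' M') :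
    Acts ι (γ * γ') (M * M') := by
  intro e v hv
  rw [← Matrix.mulVec_mulVec]
  exact h _ _ (h' _ _ hv)

theorem acts_one : Acts ι (1 : MulAut (PQ K)) 1 := by
  intro e v hv
  rw [Matrix.one_mulVec]
  exact hv

include h9

theorem Acts.unique {γ : MulAut (PQ K)} {M M' : Mat} (h : Acts ι γ M) (h' : Acts ι γ M') : M = M' := by
  apply Matrix.ext_of_mulVec_single
  intro i
  exact co_unique h9 (h _ _ (co_mk _)) (h' _ _ (co_mk _))

theorem Acts.inv {γ : MulAut (PQ K)} {M M' : Mat} (h : Acts ι γ M) (hM : M' * M = 1) : Acts ι γ⁻¹ M' := by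
  intro e v hv
  obtain ⟨w, hw⟩ := co_exists h9 ((γ⁻¹ e : PQ K) : PG K)
  have h1 := h _ _ hw
  rw [MulAut.apply_inv_self] at h1
  have h2 := co_unique h9 hv h1
  rw [h2, Matrix.mulVec_mulVec, hM, Matrix.one_mulVec]
  exact hw

omit h9

theorem comm_formula (x y : PQ K) : (x : PG K) * y = y * x ↔
    (x : PG K).r * star (y : PG K).b + star (x : PG K).r * (y : PG K).b =
      (y : PG K).r * star (x : PG K).b + star (y : PG K).r * (x : PG K).b := by
  have hx : (x : PG K).c = 0 := x.2
  have hy : (y : PG K).c = 0 := y.2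
  constructor
  · intro h
    have h1 := congrArg PG.a h
    rw [PG.mul_a, PG.mul_a, hx, hy] at h1
    linear_combination h1
  · intro h
    ext
    · rw [PG.mul_r, PG.mul_r, add_comm]
    · rw [PG.mul_a, PG.mul_a, hx, hy]
      linear_combination h
    · rw [PG.mul_b, PG.mul_b, hx, hy]; ring
    · rw [PG.mul_c, PG.mul_c, add_comm]

include h9

theorem two_ne : (2 : K) ≠ 0 := by
  intro h
  have h3 : (3 : K) = 0 := three_eq
  have : (1 : K) = 0 := by linear_combination h3 - h
  exact one_ne_zero this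

theorem central_iff (x : PQ K) : (∀ y : PQ K, (x : PG K) * y = y * x) ↔ (x : PG K) ∈ PZ K := by
  have hx : (x : PG K).c = 0 := x.2
  constructor
  · intro h
    -- test elements
    have key : ∀ (r b : K), (x : PG K).r * star b + star (x : PG K).r * b =
        r * star (x : PG K).b + star r * (x : PG K).b := by
      intro r b
      have h1 := h ⟨{ r := r, a := 0, b := b, c := 0, ha := by simp, hc := by simp }, rfl⟩
      exact (comm_formula x _).1 h1
    have h1 := key 0 1
    have h2 := key 0 ι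
    have h3 := key 1 0
    have h4 := key ι 0
    simp only [star_zero, star_one, mul_one, mul_zero, zero_mul, add_zero, one_mul, star_io h9] at h1 h2 h3 h4
    have hi : ι ≠ 0 := by
      intro h0
      have := h9.sq
      rw [h0, mul_zero] at this
      exact one_ne_zero (neg_eq_zero.1 this.symm)
    have h2' : ι * (star (x : PG K).r - (x : PG K).r) = 0 := by linear_combination h2
    have h4' : ι * (star (x : PG K).b - (x : PG K).b) = 0 := by linear_combination - h4
    have e1 := (mul_eq_zero.1 h2').resolve_left hi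
    have e2 := (mul_eq_zero.1 h4').resolve_left hi
    have f1 : (2 : K) * (x : PG K).r = 0 := by linear_combination h1 - e1
    have f2 : (2 : K) * (x : PG K).b = 0 := by linear_combination - h3 - e2
    exact ⟨(mul_eq_zero.1 f1).resolve_left (two_ne h9), (mul_eq_zero.1 f2).resolve_left (two_ne h9), hx⟩
  · rintro ⟨h1, h2, -⟩ y
    rw [comm_formula, h1, h2]
    simp

theorem map_PZ (γ : MulAut (PQ K)) {e : PQ K} (he : (e : PG K) ∈ PZ K) : ((γ e : PQ K) : PG K) ∈ PZ K := by
  rw [← central_iff h9] at he ⊢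
  intro y
  have h1 := he (γ⁻¹ y)
  have h2 : e * γ⁻¹ y = γ⁻¹ y * e := Subtype.ext h1
  have h3 := congrArg γ h2
  rw [map_mul, map_mul, MulAut.apply_inv_self] at h3
  exact congrArg Subtype.val h3

/-- every automorphism of `Q` acts by a matrix -/
theorem exists_acts (γ : MulAut (PQ K)) : ∃ M, Acts ι γ M := by
  -- the map on coordinates
  choose F hF using fun v : Fin 4 → ZMod 3 => co_exists h9 ((γ (mk ι v) : PQ K) : PG K)
  have hdep : ∀ (e : PQ K) (v : Fin 4 → ZMod 3), Co ι (e : PG K) v → Co ι ((γ e : PQ K) : PG K) (F v) := by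
    intro e v hv
    have hc : (e : PG K).c = 0 := e.2
    have h1 : (((mk ι v)⁻¹ * e : PQ K) : PG K) ∈ PZ K := by
      refine ⟨?_, ?_, ?_⟩
      · show (-(mk ι v : PG K).r + (e : PG K).r) = 0
        rw [hv.1]; exact neg_add_cancel _
      · show ((mk ι v : PG K)⁻¹ * (e : PG K)).b = 0
        rw [PG.mul_b, PG.inv_b, hc, hv.2]
        have h1 : (mk ι v : PG K).b = el ι (v 2) (v 3) := rfl
        have h2 : (mk ι v : PG K).c = 0 := rfl
        rw [h1, h2]; ring
      · show (-(mk ι v : PG K).c + (e : PG K).c) = 0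
        have h2 : (mk ι v : PG K).c = 0 := rfl
        rw [h2, hc]; ring
    obtain ⟨k1, k2, k3⟩ := map_PZ h9 γ h1
    have h2 : γ e = γ (mk ι v) * γ ((mk ι v)⁻¹ * e) := by
      rw [← map_mul, mul_inv_cancel_left]
    rw [h2]
    refine ⟨?_, ?_⟩
    · rw [Subgroup.coe_mul, PG.mul_r, k1, add_zero]; exact (hF v).1
    · rw [Subgroup.coe_mul, PG.mul_b, k2, k3, mul_zero, add_zero, add_zero]; exact (hF v).2
  have hadd : ∀ v w, F (v + w) = F v + F w := by
    intro v w
    have h1 := hdep _ _ (co_mul (co_mk (ι := ι) v) (co_mk (ι := ι) w))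
    rw [map_mul] at h1
    exact co_unique h9 h1 (co_mul (hF v) (hF w))
  let f : (Fin 4 → ZMod 3) →+ (Fin 4 → ZMod 3) := AddMonoidHom.mk' F hadd
  let L : (Fin 4 → ZMod 3) →ₗ[ZMod 3] (Fin 4 → ZMod 3) := f.toZModLinearMap 3
  refine ⟨LinearMap.toMatrix' L, fun e v hv => ?_⟩
  rw [LinearMap.toMatrix'_mulVec]
  exact hdep e v hv

end

end Cfsg.Agent.H753.P4
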