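import Cfsg.Agent.H753.P4.Coord
import Cfsg.Agent.H802.FusBasic

/-!
# S5210, q = 3: the normalizer of `Aut_S(Q)` and the orbit counting (helper753)
-/

set_option autoImplicit false

namespace Cfsg.Agent.H753.P4

open Cfsg Cfsg.FusionSystem Cfsg.Agent.H776.P4
open Cfsg.Agent.H756.PU (HypK NormAut)

universe u

/-! ### Matrices -/

/-- equal up to sign -/
def Pm (A B : Mat) : Prop := A = B ∨ A = -B

instance (A B : Mat) : Decidable (Pm A B) := inferInstanceAs (Decidable (_ ∨ _))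

/-- `M` conjugates `N` to `± N'` -/
def Cj (M N N' : Mat) : Prop := Pm (M * N) (N' * M)

instance (M N N' : Mat) : Decidable (Cj M N N') := inferInstanceAs (Decidable (Pm _ _))

theorem Cj.mul {M M' N N' N'' : Mat} (h : Cj M N N') (h' : Cj M' N' N'') : Cj (M' * M) N N'' := by
  unfold Cj Pm at *
  rcases h with h | h <;> rcases h' with h' | h'
  · left; rw [mul_assoc, h, ← mul_assoc, h', mul_assoc]
  · right; rw [mul_assoc, h, ← mul_assoc, h', neg_mul, mul_assoc]
  · right; rw [mul_assoc, h, mul_neg, ← mul_assoc, h', mul_assoc]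
  · left; rw [mul_assoc, h, mul_neg, ← mul_assoc, h', neg_mul, neg_neg, mul_assoc]

theorem Cj.one (N : Mat) : Cj 1 N N := Or.inl (by rw [one_mul, mul_one])

theorem Cj.inv {M M' N N' : Mat} (h : Cj M N N') (h1 : M' * M = 1) (h2 : M * M' = 1) : Cj M' N' N := by
  unfold Cj Pm at *
  rcases h with h | h
  · left
    calc M' * N' = M' * (N' * M) * M' := by rw [mul_assoc, mul_assoc, h2, mul_one]
      _ = N * M' := by rw [← h, ← mul_assoc, h1, one_mul]
  · right
    have h3 : N' * M = -(M * N) := by rw [h, neg_neg]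
    calc M' * N' = M' * (N' * M) * M' := by rw [mul_assoc, mul_assoc, h2, mul_one]
      _ = -(N * M') := by rw [h3, mul_neg, ← mul_assoc, h1, one_mul, neg_mul]

/-- the nilpotent map `(r, b) ↦ (0, r)` -/
def N0 : Mat := !![0, 0, 0, 0; 0, 0, 0, 0; 1, 0, 0, 0; 0, 1, 0, 0]

/-- `W_κ`, `κ = u + v ι` -/
def WM (u v : ZMod 3) : Mat :=
  !![-u, -v, 1, 0; -v, u, 0, 1; -1 - u * u - v * v, 0, u, v; 0, -1 - u * u - v * v, v, -u]

/-- `ε_κ` -/
def EM (u v : ZMod 3) : Mat := !![1, 0, 0, 0; 0, 1, 0, 0; u, v, 1, 0; v, -u, 0, 1]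

theorem EM_inv (u v : ZMod 3) : EM (-u) (-v) * EM u v = 1 := by
  revert u v
  decide +kernel

theorem WM_eq (u v : ZMod 3) : EM u v * WM 0 0 * EM (-u) (-v) = WM u v := by
  revert u v
  decide +kernel

theorem pow_N0 (t : ZMod 3) : 1 + t • N0 = (1 + N0) ^ t.val := by
  revert t
  decide +kernel

theorem N0_ne : N0 ≠ 0 := by decide +kernel

/-! ### Counting cosets -/

theorem comm_central {G : Type*} [Group G] {x y z1 z2 : G} (c1 : ∀ g, z1 * g = g * z1) (c2 : ∀ g, z2 * g = g * z2) :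
    (x * z1) * (y * z2) * (x * z1)⁻¹ * (y * z2)⁻¹ = x * y * x⁻¹ * y⁻¹ := by
  rw [mul_inv_rev, mul_inv_rev]
  calc x * z1 * (y * z2) * (z1⁻¹ * x⁻¹) * (z2⁻¹ * y⁻¹)
      = x * (z1 * (y * z2) * z1⁻¹) * x⁻¹ * (z2⁻¹ * y⁻¹) := by simp only [mul_assoc]
    _ = x * (y * z2) * x⁻¹ * (z2⁻¹ * y⁻¹) := by rw [c1 (y * z2), mul_inv_cancel_right]
    _ = x * y * (z2 * x⁻¹) * z2⁻¹ * y⁻¹ := by simp only [mul_assoc]
    _ = x * y * x⁻¹ * y⁻¹ := by rw [c2 x⁻¹]; simp only [mul_assoc, mul_inv_cancel_left]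

theorem card_of_table {G : Type*} [Group G] [Finite G] (H : Subgroup G) (n : ℕ) (t : Fin n → G)
    (ht : ∀ i j, (t i)⁻¹ * t j ∈ H → i = j) (hc : ∀ g, ∃ i, (t i)⁻¹ * g ∈ H) :
    Nat.card G = n * Nat.card H := by
  have hb : Function.Bijective (fun i : Fin n => (t i : G ⧸ H)) := by
    constructor
    · intro i j h
      exact ht i j (QuotientGroup.eq.1 h)
    · intro q
      induction q using QuotientGroup.induction_on with
      | H g =>
        obtain ⟨i, hi⟩ := hc g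
        exact ⟨i, QuotientGroup.eq.2 hi⟩
  have h1 : H.index = n := by
    rw [Subgroup.index, ← Nat.card_congr (Equiv.ofBijective _ hb), Nat.card_fin]
  rw [← H.card_mul_index, h1, mul_comm]

section
variable {K : Type u} [Field K] [StarRing K] [CharP K 3] {ι : K} (h9 : F9 ι)

/-- the matrix of an automorphism of `Q` -/
noncomputable def rho (γ : MulAut (PQ K)) : Mat := (exists_acts h9 γ).choose

theorem acts_rho (γ : MulAut (PQ K)) : Acts ι γ (rho h9 γ) := (exists_acts h9 γ).choose_spec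

theorem rho_eq {γ : MulAut (PQ K)} {M : Mat} (h : Acts ι γ M) : rho h9 γ = M := (acts_rho h9 γ).unique h9 h

theorem rho_mul (γ γ' : MulAut (PQ K)) : rho h9 (γ * γ') = rho h9 γ * rho h9 γ' :=
  rho_eq h9 ((acts_rho h9 γ).mul (acts_rho h9 γ'))

theorem rho_one : rho h9 1 = 1 := rho_eq h9 acts_one

theorem rho_inv_mul (γ : MulAut (PQ K)) : rho h9 γ⁻¹ * rho h9 γ = 1 := by
  rw [← rho_mul, inv_mul_cancel, rho_one]

theorem rho_mul_inv (γ : MulAut (PQ K)) : rho h9 γ * rho h9 γ⁻¹ = 1 := by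
  rw [← rho_mul, mul_inv_cancel, rho_one]

omit [CharP K 3] in
theorem PQ_normal : (PQ K).Normal := by
  refine ⟨fun n hn g => ?_⟩
  have hn' : n.c = 0 := hn
  show (g * n * g⁻¹).c = 0
  rw [PG.mul_c, PG.mul_c, PG.inv_c, hn']
  ring

omit [CharP K 3] in
theorem conj_r (g : PG K) (e : PQ K) : (g * (e : PG K) * g⁻¹).r = (e : PG K).r := by
  rw [PG.mul_r, PG.mul_r, PG.inv_r]
  ring

omit [CharP K 3] in
theorem conj_b (g : PG K) (e : PQ K) : (g * (e : PG K) * g⁻¹).b = (e : PG K).b - (e : PG K).r * g.c := by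
  have he : (e : PG K).c = 0 := e.2
  rw [PG.mul_b, PG.mul_b, PG.mul_r, PG.inv_b, PG.inv_c, he]
  ring

omit [StarRing K] in
theorem el_sub_mul (a b c d t : ZMod 3) : el ι c d - el ι a b * cs K t = el ι (c - t * a) (d - t * b) := by
  unfold el
  rw [map_sub, map_sub, map_mul, map_mul]
  ring

theorem N0_mulVec (t : ZMod 3) (v : Fin 4 → ZMod 3) :
    (1 + t • N0).mulVec v = ![v 0, v 1, v 2 + t * v 0, v 3 + t * v 1] := by
  funext i
  fin_cases i <;> simp [N0, Matrix.mulVec, dotProduct, Fin.sum_univ_four, add_comm]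

/-- conjugation by `g` acts on `Q/Z` as `1 - c N₀` -/
theorem acts_conj {g : PG K} {t : ZMod 3} (ht : g.c = cs K t) {y : MulAut (PQ K)}
    (hy : ∀ e : PQ K, ((y e : PQ K) : PG K) = g * e * g⁻¹) : Acts ι y (1 + (-t) • N0) := by
  intro e v hv
  rw [N0_mulVec]
  constructor
  · rw [hy, conj_r]; exact hv.1
  · rw [hy, conj_b, hv.1, hv.2, ht, el_sub_mul]
    show el ι (v 2 - t * v 0) (v 3 - t * v 1) = el ι (v 2 + -t * v 0) (v 3 + -t * v 1)
    congr 1 <;> ring

include h9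

theorem mem_R {y : MulAut (PQ K)} (hy : y ∈ autInducedBy ⊤ (PQ K)) : ∃ t : ZMod 3, rho h9 y = 1 + t • N0 := by
  obtain ⟨g, -, hg⟩ := (Cfsg.Agent.H802.mem_autInducedBy_iff _ _ _).1 hy
  obtain ⟨t, ht⟩ := fixed h9 g.hc
  exact ⟨-t, rho_eq h9 (acts_conj ht hg)⟩

theorem exists_R (t : ZMod 3) : ∃ y ∈ autInducedBy ⊤ (PQ K), rho h9 y = 1 + t • N0 := by
  have := PQ_normal (K := K)
  let g : PG K := { r := 0, a := 0, b := 0, c := cs K (-t), ha := by simp, hc := star_cs h9 _ }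
  refine ⟨MulAut.conjNormal g, (Cfsg.Agent.H802.mem_autInducedBy_iff _ _ _).2
    ⟨g, Subgroup.mem_top _, fun e => MulAut.conjNormal_apply g e⟩, ?_⟩
  have h1 := acts_conj (ι := ι) (g := g) (t := -t) rfl (y := MulAut.conjNormal g) (fun e => MulAut.conjNormal_apply g e)
  rw [neg_neg] at h1
  exact rho_eq h9 h1

omit h9

theorem neg_el (a b : ZMod 3) : - el ι a b = el ι (-a) (-b) := by
  unfold el
  rw [map_neg, map_neg]
  ring

include h9

theorem el_mul_star (u v a b : ZMod 3) : el ι u v * star (el ι a b) = el ι (u * a + v * b) (v * a - u * b) := by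
  rw [star_el h9]
  unfold el
  simp only [map_add, map_sub, map_mul, map_neg]
  linear_combination (-(cs K v * cs K b)) * h9.sq

theorem acts_WQ {n : MulAut (PQ K)} (hn : IsWQ n) : Acts ι n (WM 0 0) := by
  intro e v hv
  have h1 : (WM 0 0).mulVec v = ![v 2, v 3, -v 0, -v 1] := by
    funext i
    fin_cases i <;> simp [WM, Matrix.mulVec, dotProduct, Fin.sum_univ_four]
  rw [h1]
  constructor
  · rw [hn.r, hv.2]; rfl
  · rw [hn.b, hv.1, neg_el]; rfl

theorem acts_Ep {u v : ZMod 3} {ε : MulAut (PG K)} (hε : IsEp (el ι u v) ε) {t : MulAut (PQ K)} (ht : IsRP ε t) :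
    Acts ι t (EM u v) := by
  intro e w hw
  have h1 : (EM u v).mulVec w = ![w 0, w 1, w 2 + (u * w 0 + v * w 1), w 3 + (v * w 0 - u * w 1)] := by
    funext i
    fin_cases i <;> simp [EM, Matrix.mulVec, dotProduct, Fin.sum_univ_four] <;> ring
  rw [h1]
  constructor
  · rw [ht, hε.r, hw.1]; rfl
  · rw [ht, hε.b, hw.1, hw.2, el_mul_star h9, ← el_add]; rfl

theorem rho_Wk {u v : ZMod 3} {γ : MulAut (PQ K)} (h : IsWk (el ι u v) γ) : rho h9 γ = WM u v := by
  obtain ⟨ε, n, t, h1, h2, h3, rfl⟩ := h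
  have ht := acts_Ep h9 h1 h3
  have h4 := ((ht.mul (acts_WQ h9 h2)).mul (ht.inv h9 (EM_inv u v)))
  rw [WM_eq] at h4
  exact rho_eq h9 h4

/-- the automorphisms trivial on `Q/Z` -/
theorem ker_pgroup {γ : MulAut (PQ K)} (h : rho h9 γ = 1) : γ ^ 3 = 1 := by
  have hact := acts_rho h9 γ
  rw [h] at hact
  -- `γ e = e * z`
  have hz : ∀ e : PQ K, ((e⁻¹ * γ e : PQ K) : PG K) ∈ PZ K := by
    intro e
    obtain ⟨v, hv⟩ := co_exists h9 (e : PG K)
    have h1 := hact e v hv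
    rw [Matrix.one_mulVec] at h1
    have hc : (e : PG K).c = 0 := e.2
    have hc' : ((γ e : PQ K) : PG K).c = 0 := (γ e).2
    refine ⟨?_, ?_, ?_⟩
    · show -(e : PG K).r + ((γ e : PQ K) : PG K).r = 0
      rw [hv.1, h1.1]; exact neg_add_cancel _
    · show ((e : PG K)⁻¹ * ((γ e : PQ K) : PG K)).b = 0
      rw [PG.mul_b, PG.inv_b, hc, hc', hv.2, h1.2]; ring
    · show -(e : PG K).c + ((γ e : PQ K) : PG K).c = 0
      rw [hc, hc']; ring
  -- `γ` is trivial on `Z`
  have hcent : ∀ z : PQ K, (z : PG K) ∈ PZ K → ∀ y : PQ K, z * y = y * z := fun z hz y =>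
    Subtype.ext ((central_iff h9 z).2 hz y)
  have hZ : ∀ z : PQ K, (z : PG K) ∈ PZ K → γ z = z := by
    intro z hzz
    obtain ⟨k1, k2, k3⟩ := hzz
    -- `z` is a commutator
    obtain ⟨t, ht⟩ := fixed h9 (z : PG K).ha
    let x : PQ K := ⟨{ r := 1, a := 0, b := 0, c := 0, ha := by simp, hc := by simp }, rfl⟩
    let y : PQ K := ⟨{ r := 0, a := 0, b := cs K (-t), c := 0, ha := by simp, hc := by simp }, rfl⟩
    have hxy : x * y * x⁻¹ * y⁻¹ = z := by
      apply Subtype.ext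
      show (x : PG K) * y * (x : PG K)⁻¹ * (y : PG K)⁻¹ = z
      have e1 : (x : PG K).r = 1 := rfl
      have e2 : (x : PG K).a = 0 := rfl
      have e3 : (x : PG K).b = 0 := rfl
      have e4 : (x : PG K).c = 0 := rfl
      have e5 : (y : PG K).r = 0 := rfl
      have e6 : (y : PG K).a = 0 := rfl
      have e7 : (y : PG K).b = cs K (-t) := rfl
      have e8 : (y : PG K).c = 0 := rfl
      ext
      · simp only [PG.mul_r, PG.inv_r, e1, e5, k1]; ring
      · simp only [PG.mul_a, PG.mul_b, PG.mul_c, PG.mul_r, PG.inv_r, PG.inv_a, PG.inv_b, PG.inv_c, e1, e2, e3, e4, e5, e6, e7,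
          e8, ht, star_zero, star_one, star_neg, star_cs h9, star_add, star_mul']
        rw [map_neg]
        have h3 : (3 : K) = 0 := three_eq
        linear_combination (-cs K t) * h3
      · simp only [PG.mul_b, PG.mul_c, PG.mul_r, PG.inv_r, PG.inv_b, PG.inv_c, e1, e3, e4, e5, e7, e8, k2]; ring
      · simp only [PG.mul_c, PG.inv_c, e4, e8, k3]; ring
    have hx := hz x
    have hy := hz y
    have f1 : γ x = x * (x⁻¹ * γ x) := (mul_inv_cancel_left _ _).symm
    have f2 : γ y = y * (y⁻¹ * γ y) := (mul_inv_cancel_left _ _).symm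
    have c1 := hcent _ hx
    have c2 := hcent _ hy
    rw [← hxy, map_mul, map_mul, map_mul, map_inv, map_inv]
    generalize x⁻¹ * γ x = z1 at f1 c1
    generalize y⁻¹ * γ y = z2 at f2 c2
    rw [f1, f2]
    exact comm_central c1 c2
  have hz3 : ∀ z : PQ K, (z : PG K) ∈ PZ K → z * z * z = 1 := by
    rintro z ⟨k1, k2, k3⟩
    have h3 : (3 : K) = 0 := three_eq
    apply Subtype.ext
    show (z : PG K) * z * z = 1
    ext
    · simp only [PG.mul_r, k1, PG.one_r]; ring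
    · simp only [PG.mul_a, PG.mul_r, k1, k2, k3, PG.one_a, star_zero]
      linear_combination (z : PG K).a * h3
    · simp only [PG.mul_b, PG.mul_r, k1, k2, k3, PG.one_b]; ring
    · simp only [PG.mul_c, k3, PG.one_c]; ring
  ext1 e
  have h1 := hz e
  set z := e⁻¹ * γ e with hzz
  have f1 : γ e = e * z := by rw [hzz, mul_inv_cancel_left]
  have f2 := hZ z h1
  show (γ ^ 3) e = e
  rw [pow_succ, pow_two, MulAut.mul_apply, MulAut.mul_apply, f1, map_mul, f1, f2, map_mul, map_mul, f1, f2, mul_assoc, mul_assoc,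
    ← mul_assoc z z z, hz3 z h1, mul_one]

end

end Cfsg.Agent.H753.P4
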