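import Cfsg.Agent.H753.P4.Norm

/-!
# S5210, q = 3: `|Γ|` by the orbit of `Aut_S(Q)` (helper753)
-/

set_option autoImplicit false

namespace Cfsg.Agent.H753.P4

open Cfsg Cfsg.FusionSystem Cfsg.Agent.H776.P4
open Cfsg.Agent.H756.PU (HypK NormAut)

universe u

/-- a table for the orbit of `± N₀` under `1 + N₀` and the `W_κ` -/
structure Tab {n : ℕ} (ks : List (ZMod 3 × ZMod 3)) (L : Fin n → Mat) : Prop where
  reach : ∃ i0, L i0 = N0 ∧ ∀ S : Fin n → Prop, S i0 → (∀ i j, S i → Cj (1 + N0) (L i) (L j) → S j) →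
    (∀ κ ∈ ks, ∀ i j, S i → Cj (WM κ.1 κ.2) (L i) (L j) → S j) → ∀ j, S j
  cx : ∀ i, ∃ j, Cj (1 + N0) (L i) (L j)
  cw : ∀ κ ∈ ks, ∀ i, ∃ j, Cj (WM κ.1 κ.2) (L i) (L j)
  dist : ∀ i j, Pm (L i) (L j) → i = j

section
variable {K : Type u} [Field K] [StarRing K] [CharP K 3] {ι : K} (h9 : F9 ι)

include h9

theorem card_PZ : Nat.card (PZ K) = 3 := by
  let f : ZMod 3 → PZ K := fun t =>
    ⟨{ r := 0, a := cs K t, b := 0, c := 0, ha := star_cs h9 t, hc := by simp }, rfl, rfl, rfl⟩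
  have hf : Function.Bijective f := by
    constructor
    · intro s t h
      have h1 : cs K s = cs K t := congrArg (fun x : PZ K => (x : PG K).a) h
      exact cs_inj h1
    · rintro ⟨g, h1, h2, h3⟩
      obtain ⟨t, ht⟩ := fixed h9 g.ha
      refine ⟨t, Subtype.ext ?_⟩
      ext
      · exact h1.symm
      · exact ht.symm
      · exact h2.symm
      · exact h3.symm
  rw [← Nat.card_congr (Equiv.ofBijective f hf), Nat.card_zmod]

theorem smul_N0_inj {s t : ZMod 3} (h : (1 : Mat) + s • N0 = 1 + t • N0) : s = t := by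
  have h1 := congrFun (congrFun h 2) 0
  simpa [N0] using h1

theorem card_R (h729 : Nat.card (PG K) = 729) : Nat.card (autInducedBy ⊤ (PQ K)) = 243 := by
  have hn := PQ_normal (K := K)
  have e1 : autInducedBy ⊤ (PQ K) = (MulAut.conjNormal : PG K →* MulAut (PQ K)).range := by
    ext y
    rw [Cfsg.Agent.H802.mem_autInducedBy_iff]
    constructor
    · rintro ⟨g, -, hg⟩
      refine ⟨g, ?_⟩
      ext1 e
      exact Subtype.ext ((MulAut.conjNormal_apply g e).trans (hg e).symm)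
    · rintro ⟨g, rfl⟩
      exact ⟨g, Subgroup.mem_top _, fun e => MulAut.conjNormal_apply g e⟩
  have e2 : (MulAut.conjNormal : PG K →* MulAut (PQ K)).ker = PZ K := by
    ext g
    rw [MonoidHom.mem_ker]
    constructor
    · intro h
      obtain ⟨t, ht⟩ := fixed h9 g.hc
      have h1 := rho_eq h9 (acts_conj (ι := ι) ht (y := MulAut.conjNormal g) (fun e => MulAut.conjNormal_apply g e))
      rw [h, rho_one] at h1
      have h2 : (0 : ZMod 3) = -t := smul_N0_inj h9 (by rw [zero_smul, add_zero]; exact h1)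
      have h3 : t = 0 := by rw [← neg_eq_zero]; exact h2.symm
      have hc : g.c = 0 := by rw [ht, h3, map_zero]
      refine (central_iff h9 ⟨g, hc⟩).1 fun y => ?_
      have h4 : ((MulAut.conjNormal g y : PQ K) : PG K) = y := by rw [h]; rfl
      rw [MulAut.conjNormal_apply] at h4
      exact mul_inv_eq_iff_eq_mul.1 h4
    · intro h
      have hc : g.c = 0 := h.2.2
      have h1 := (central_iff h9 ⟨g, hc⟩).2 h
      ext1 e
      apply Subtype.ext
      rw [MulAut.conjNormal_apply]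
      exact mul_inv_eq_iff_eq_mul.2 (h1 e)
  have h1 := (MulAut.conjNormal : PG K →* MulAut (PQ K)).ker.card_mul_index
  rw [Subgroup.index_ker, e2, card_PZ h9, h729, ← e1] at h1
  omega

variable {Γ : Subgroup (MulAut (PQ K))} {D : Subgroup (MulAut (PG K))}

theorem mem_R_of_ker (hpar : ParP 3 (PQ K) Γ D) {γ : MulAut (PQ K)} (hγ : γ ∈ Γ) (h : rho h9 γ = 1) :
    γ ∈ autInducedBy ⊤ (PQ K) := by
  let P0 : Subgroup (MulAut (PQ K)) :=
    { carrier := {x | x ∈ Γ ∧ rho h9 x = 1}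
      one_mem' := ⟨Γ.one_mem, rho_one h9⟩
      mul_mem' := by
        rintro a b ⟨h1, h2⟩ ⟨h3, h4⟩
        exact ⟨Γ.mul_mem h1 h3, by rw [rho_mul, h2, h4, mul_one]⟩
      inv_mem' := by
        rintro a ⟨h1, h2⟩
        refine ⟨Γ.inv_mem h1, ?_⟩
        have h3 := rho_inv_mul h9 a
        rwa [h2, mul_one] at h3 }
  have hP : IsPGroup 3 P0 := by
    rintro ⟨x, hx⟩
    refine ⟨1, Subtype.ext ?_⟩
    rw [pow_one]
    exact ker_pgroup h9 hx.2
  obtain ⟨g, hg, hgP⟩ := hpar.syl P0 (fun x hx => hx.1) hP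
  have h1 : g⁻¹ * γ * g ∈ P0 := by
    refine ⟨Γ.mul_mem (Γ.mul_mem (Γ.inv_mem hg) hγ) hg, ?_⟩
    rw [rho_mul, rho_mul, h, mul_one, rho_inv_mul]
  have h2 := hgP _ h1
  have h3 : g * (g⁻¹ * γ * g) * g⁻¹ = γ := by group
  rwa [h3] at h2

theorem cj_of_norm {δ : MulAut (PQ K)} (h : NormAut (⊤ : Subgroup (PG K)) δ) : Cj (rho h9 δ) N0 N0 := by
  obtain ⟨y, hy, h1⟩ := exists_R h9 1
  obtain ⟨t, ht⟩ := mem_R h9 (h y hy)
  rw [rho_mul, rho_mul, h1, one_smul] at ht
  have h2 : rho h9 δ * (1 + N0) = (1 + t • N0) * rho h9 δ := by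
    rw [← ht, mul_assoc, rho_inv_mul, mul_one]
  have h3 : rho h9 δ * N0 = t • (N0 * rho h9 δ) := by
    rw [mul_add, add_mul, mul_one, one_mul, smul_mul_assoc] at h2
    exact add_left_cancel h2
  have h4 : t = 0 ∨ t = 1 ∨ t = -1 := by
    clear ht h2 h3
    revert t
    decide
  rcases h4 with rfl | rfl | rfl
  · exfalso
    rw [zero_smul] at h3
    apply N0_ne
    calc N0 = rho h9 δ⁻¹ * (rho h9 δ * N0) := by rw [← mul_assoc, rho_inv_mul, one_mul]
      _ = 0 := by rw [h3, mul_zero]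
  · left; rw [h3, one_smul]
  · right; rw [h3, neg_smul, one_smul]

theorem norm_of_cj (hpar : ParP 3 (PQ K) Γ D) {γ : MulAut (PQ K)} (hγ : γ ∈ Γ) (h : Cj (rho h9 γ) N0 N0) :
    NormAut (⊤ : Subgroup (PG K)) γ := by
  intro x hx
  obtain ⟨t, ht⟩ := mem_R h9 hx
  have h1 : ∃ s : ZMod 3, rho h9 (γ * x * γ⁻¹) = 1 + s • N0 := by
    rw [rho_mul, rho_mul, ht, mul_add, mul_one, mul_smul_comm, add_mul, rho_mul_inv, smul_mul_assoc]
    rcases h with h | h
    · exact ⟨t, by rw [h, mul_assoc, rho_mul_inv, mul_one]⟩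
    · exact ⟨-t, by rw [h, neg_mul, mul_assoc, rho_mul_inv, mul_one, smul_neg, neg_smul]⟩
  obtain ⟨s, hs⟩ := h1
  obtain ⟨y, hy, hy1⟩ := exists_R h9 s
  have h2 : y⁻¹ * (γ * x * γ⁻¹) ∈ autInducedBy ⊤ (PQ K) := by
    apply mem_R_of_ker h9 hpar
    · exact Γ.mul_mem (Γ.inv_mem (hpar.indu hy)) (Γ.mul_mem (Γ.mul_mem hγ (hpar.indu hx)) (Γ.inv_mem hγ))
    · rw [rho_mul, hs, ← hy1, rho_inv_mul]
  have h3 := Subgroup.mul_mem _ hy h2
  rwa [mul_inv_cancel_left] at h3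

omit h9 in
theorem exists_res {d : MulAut (PG K)} {s l : K} {τ : K ≃+* K} (hd : IsTorP d s l τ) :
    ∃ δ : MulAut (PQ K), IsRP d δ := by
  have h1 : ∀ e : PQ K, d e ∈ PQ K := by
    intro e
    have he : (e : PG K).c = 0 := e.2
    show (d e).c = 0
    rw [hd.c, he, map_zero, mul_zero]
  have h2 : ∀ e : PQ K, d.symm e ∈ PQ K := by
    intro e
    have he : (e : PG K).c = 0 := e.2
    show (d.symm e).c = 0
    have h3 := hd.c (d.symm e)
    rw [d.apply_symm_apply, he] at h3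
    have h4 := (mul_eq_zero.1 h3.symm).resolve_left hd.nl
    exact τ.map_eq_zero_iff.1 h4
  exact ⟨{ toFun := fun e => ⟨d e, h1 e⟩
           invFun := fun e => ⟨d.symm e, h2 e⟩
           left_inv := fun e => Subtype.ext (d.symm_apply_apply e)
           right_inv := fun e => Subtype.ext (d.apply_symm_apply e)
           map_mul' := fun x y => Subtype.ext (map_mul d (x : PG K) (y : PG K)) }, fun e => rfl⟩

omit h9 in
theorem norm_res {d : MulAut (PG K)} {δ : MulAut (PQ K)} (hδ : IsRP d δ) : NormAut (⊤ : Subgroup (PG K)) δ := by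
  intro x hx
  obtain ⟨g, -, hg⟩ := (Cfsg.Agent.H802.mem_autInducedBy_iff _ _ _).1 hx
  refine (Cfsg.Agent.H802.mem_autInducedBy_iff _ _ _).2 ⟨d g, Subgroup.mem_top _, fun e => ?_⟩
  rw [MulAut.mul_apply, MulAut.mul_apply, hδ, hg, map_mul, map_mul, map_inv, ← hδ, MulAut.apply_inv_self]

omit h9 in
/-- a restriction of a torus element acting like a conjugation is trivial -/
theorem tor_eq {d d' : MulAut (PG K)} {s l s' l' : K} {τ τ' : K ≃+* K} (hd : IsTorP d s l τ) (hd' : IsTorP d' s' l' τ')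
    {δ δ' : MulAut (PQ K)} (hδ : IsRP d δ) (hδ' : IsRP d' δ') {y y' : MulAut (PQ K)} (hy : y ∈ autInducedBy ⊤ (PQ K))
    (hy' : y' ∈ autInducedBy ⊤ (PQ K)) (h : y * δ = y' * δ') : d = d' := by
  obtain ⟨g, -, hg⟩ := (Cfsg.Agent.H802.mem_autInducedBy_iff _ _ _).1 hy
  obtain ⟨g', -, hg'⟩ := (Cfsg.Agent.H802.mem_autInducedBy_iff _ _ _).1 hy'
  have hr : ∀ e : PQ K, s * τ (e : PG K).r = s' * τ' (e : PG K).r := by
    intro e
    have h1 : (((y * δ) e : PQ K) : PG K).r = (((y' * δ') e : PQ K) : PG K).r := by rw [h]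
    rw [MulAut.mul_apply, MulAut.mul_apply, hg, hg', conj_r, conj_r, hδ, hδ', hd.r, hd'.r] at h1
    exact h1
  have hr' : ∀ x : K, s * τ x = s' * τ' x := fun x =>
    hr ⟨{ r := x, a := 0, b := 0, c := 0, ha := by simp, hc := by simp }, rfl⟩
  have hs : s = s' := by
    have h1 := hr' 1
    rwa [map_one, map_one, mul_one, mul_one] at h1
  have hτ : ∀ x, τ x = τ' x := by
    intro x
    have h1 := hr' x
    rw [← hs] at h1
    exact mul_left_cancel₀ hd.ns h1
  have hl : l = l' := by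
    let e : PQ K := ⟨{ r := 0, a := 0, b := 1, c := 0, ha := by simp, hc := by simp }, rfl⟩
    have h1 : (((y * δ) e : PQ K) : PG K).b = (((y' * δ') e : PQ K) : PG K).b := by rw [h]
    have e1 : (e : PG K).r = 0 := rfl
    have e2 : (e : PG K).b = 1 := rfl
    rw [MulAut.mul_apply, MulAut.mul_apply, hg, hg', conj_b, conj_b, hδ, hδ', hd.r, hd'.r, hd.b, hd'.b, e1, e2, map_zero,
      map_zero, map_one, map_one, mul_zero, mul_zero, zero_mul, zero_mul, sub_zero, sub_zero, mul_one, mul_one, ← hs] at h1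
    exact mul_left_cancel₀ hd.ns h1
  ext1 g
  ext
  · rw [hd.r, hd'.r, hs, hτ]
  · rw [hd.a, hd'.a, hs, hl, hτ]
  · rw [hd.b, hd'.b, hs, hl, hτ]
  · rw [hd.c, hd'.c, hl, hτ]

/-- the stabilizer of `± N₀` in `Γ` -/
def HN (Γ : Subgroup (MulAut (PQ K))) : Subgroup Γ where
  carrier := {γ | Cj (rho h9 γ) N0 N0}
  one_mem' := by
    show Cj (rho h9 1) N0 N0
    rw [rho_one]
    exact Cj.one _
  mul_mem' := by
    intro a b ha hb
    show Cj (rho h9 ((a : MulAut (PQ K)) * b)) N0 N0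
    rw [rho_mul]
    exact Cj.mul hb ha
  inv_mem' := by
    intro a ha
    show Cj (rho h9 ((a : MulAut (PQ K))⁻¹)) N0 N0
    exact Cj.inv ha (rho_inv_mul h9 _) (rho_mul_inv h9 _)

theorem cj_R {y : MulAut (PQ K)} (hy : y ∈ autInducedBy ⊤ (PQ K)) : Cj (rho h9 y) N0 N0 := by
  obtain ⟨t, ht⟩ := mem_R h9 hy
  left
  rw [ht, add_mul, mul_add, one_mul, mul_one, smul_mul_assoc, mul_smul_comm]

theorem card_HN (h729 : Nat.card (PG K) = 729) (hT : ∀ α ∈ TP K, ∃ s l τ, IsTorP α s l τ)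
    (hpar : ParP 3 (PQ K) Γ D) : Nat.card (HN h9 Γ) = 243 * Nat.card D := by
  have hD : ∀ d : D, ∃ δ : MulAut (PQ K), IsRP (d : MulAut (PG K)) δ := by
    intro d
    obtain ⟨s, l, τ, h⟩ := hT _ (hpar.D_le d.2)
    exact exists_res h
  choose res hres using hD
  have hcj : ∀ d : D, Cj (rho h9 (res d)) N0 N0 := fun d => cj_of_norm h9 (norm_res (hres d))
  let f : autInducedBy ⊤ (PQ K) × D → HN h9 Γ := fun z =>
    ⟨⟨(z.1 : MulAut (PQ K)) * res z.2, Γ.mul_mem (hpar.indu z.1.2) (hpar.D_res _ z.2.2 _ (hres z.2))⟩, by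
      show Cj (rho h9 ((z.1 : MulAut (PQ K)) * res z.2)) N0 N0
      rw [rho_mul]
      exact Cj.mul (hcj z.2) (cj_R h9 z.1.2)⟩
  have hf : Function.Bijective f := by
    constructor
    · rintro ⟨y, d⟩ ⟨y', d'⟩ h
      have h1 : (y : MulAut (PQ K)) * res d = y' * res d' := congrArg (fun x : HN h9 Γ => ((x : Γ) : MulAut (PQ K))) h
      obtain ⟨s, l, τ, h2⟩ := hT _ (hpar.D_le d.2)
      obtain ⟨s', l', τ', h2'⟩ := hT _ (hpar.D_le d'.2)
      have h3 : d = d' := Subtype.ext (tor_eq h2 h2' (hres d) (hres d') y.2 y'.2 h1)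
      rw [h3] at h1
      have h4 : y = y' := Subtype.ext (mul_right_cancel h1)
      rw [h3, h4]
    · rintro ⟨⟨γ, hγ⟩, hγ2⟩
      obtain ⟨x, d, hd, hx⟩ := hpar.norm γ hγ (norm_of_cj h9 hpar hγ hγ2)
      have h1 : γ * (res ⟨d, hd⟩)⁻¹ ∈ autInducedBy ⊤ (PQ K) := by
        refine (Cfsg.Agent.H802.mem_autInducedBy_iff _ _ _).2 ⟨x, Subgroup.mem_top _, fun e => ?_⟩
        rw [MulAut.mul_apply, hx]
        have h2 := hres ⟨d, hd⟩ ((res ⟨d, hd⟩)⁻¹ e)
        rw [MulAut.apply_inv_self] at h2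
        rw [← h2]
      refine ⟨⟨⟨_, h1⟩, ⟨d, hd⟩⟩, Subtype.ext (Subtype.ext ?_)⟩
      show γ * (res ⟨d, hd⟩)⁻¹ * res ⟨d, hd⟩ = γ
      rw [inv_mul_cancel_right]
  rw [← Nat.card_congr (Equiv.ofBijective f hf), Nat.card_prod, card_R h9 h729]

theorem cj_pow {n : ℕ} {L : Fin n → Mat} {M : Mat} (h : ∀ i, ∃ j, Cj M (L i) (L j)) (k : ℕ) :
    ∀ i, ∃ j, Cj (M ^ k) (L i) (L j) := by
  induction k with
  | zero => intro i; exact ⟨i, by rw [pow_zero]; exact Cj.one _⟩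
  | succ k ih =>
    intro i
    obtain ⟨j, hj⟩ := h i
    obtain ⟨l, hl⟩ := ih j
    exact ⟨l, by rw [pow_succ]; exact hj.mul hl⟩

/-- **`|Γ|` from a table** -/
theorem card_Gamma (h729 : Nat.card (PG K) = 729) (hT : ∀ α ∈ TP K, ∃ s l τ, IsTorP α s l τ)
    (hpar : ParP 3 (PQ K) Γ D) (hE : EqLD Γ (LamP (Pt Γ)) D) {n : ℕ} {ks : List (ZMod 3 × ZMod 3)} {L : Fin n → Mat}
    (ht : Tab ks L) (hP : ∀ x : K, x ∈ Pt Γ ↔ ∃ κ ∈ ks, x = el ι κ.1 κ.2) :
    Nat.card Γ = n * (243 * Nat.card D) := by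
  have hfin : Finite (PG K) := Nat.finite_of_card_ne_zero (by rw [h729]; norm_num)
  have hfinM : Finite (MulAut (PQ K)) := inferInstance
  obtain ⟨i0, hi0, hreach⟩ := ht.reach
  -- elements of `LamP` act on the table
  let S : Subgroup (MulAut (PQ K)) :=
    { carrier := {γ | ∀ i, ∃ j, Cj (rho h9 γ) (L i) (L j)}
      one_mem' := fun i => ⟨i, by rw [rho_one]; exact Cj.one _⟩
      mul_mem' := by
        intro a b ha hb i
        obtain ⟨j, hj⟩ := hb i
        obtain ⟨l, hl⟩ := ha j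
        exact ⟨l, by rw [rho_mul]; exact hj.mul hl⟩
      inv_mem' := by
        intro a ha i
        have h1 : ∀ k : ℕ, rho h9 (a ^ k) = rho h9 a ^ k := by
          intro k
          induction k with
          | zero => rw [pow_zero, pow_zero, rho_one]
          | succ k ih => rw [pow_succ, rho_mul, ih, pow_succ]
        have h2 : a⁻¹ = a ^ (orderOf a - 1) := by
          have h3 : 0 < orderOf a := orderOf_pos a
          have h4 : a * a ^ (orderOf a - 1) = 1 := by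
            rw [← pow_succ', Nat.sub_add_cancel h3, pow_orderOf_eq_one]
          exact inv_eq_of_mul_eq_one_right h4
        obtain ⟨j, hj⟩ := cj_pow h9 ha (orderOf a - 1) i
        exact ⟨j, by rw [h2, h1]; exact hj⟩ }
  have hS : LamP (Pt Γ) ≤ S := by
    unfold LamP
    refine sup_le ?_ ?_
    · intro y hy i
      obtain ⟨t, ht'⟩ := mem_R h9 hy
      rw [ht', pow_N0]
      exact cj_pow h9 ht.cx t.val i
    · rw [Subgroup.closure_le]
      rintro γ ⟨κ, hκ, hw⟩ i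
      obtain ⟨κ', hκ', rfl⟩ := (hP κ).1 hκ
      rw [rho_Wk h9 hw]
      exact ht.cw κ' hκ' i
  -- every point of the table is reached
  have hR : ∀ i, ∃ γ : Γ, Cj (rho h9 (γ : MulAut (PQ K))) N0 (L i) := by
    apply hreach
    · refine ⟨1, ?_⟩
      show Cj (rho h9 1) N0 (L i0)
      rw [rho_one, hi0]
      exact Cj.one _
    · rintro i j ⟨γ, hγ⟩ h
      obtain ⟨y, hy, hy1⟩ := exists_R h9 1
      rw [one_smul] at hy1
      refine ⟨⟨y, hpar.indu hy⟩ * γ, ?_⟩
      show Cj (rho h9 (y * (γ : MulAut (PQ K)))) N0 (L j)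
      rw [rho_mul, hy1]
      exact hγ.mul h
    · rintro κ hκ i j ⟨γ, hγ⟩ h
      obtain ⟨w, hw, hw1⟩ := (hP _).2 ⟨κ, hκ, rfl⟩
      refine ⟨⟨w, hw⟩ * γ, ?_⟩
      show Cj (rho h9 (w * (γ : MulAut (PQ K)))) N0 (L j)
      rw [rho_mul, rho_Wk h9 hw1]
      exact hγ.mul h
  choose t htt using hR
  rw [card_of_table (HN h9 Γ) n t ?_ ?_, card_HN h9 h729 hT hpar]
  · intro i j hij
    apply ht.dist
    have h1 : Cj (rho h9 ((t i : MulAut (PQ K))⁻¹ * (t j : MulAut (PQ K)))) N0 N0 := hij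
    have h2 := h1.mul (htt i)
    rw [← rho_mul, mul_inv_cancel_left] at h2
    have h3 := htt j
    have h4 := rho_mul_inv h9 (t j : MulAut (PQ K))
    -- `L i * M = ± M * N0 = ± L j * M`
    set M := rho h9 (t j : MulAut (PQ K)) with hM
    set M' := rho h9 (t j : MulAut (PQ K))⁻¹ with hM'
    have key : ∀ A B : Mat, A * M = B * M → A = B := by
      intro A B h
      calc A = A * M * M' := by rw [mul_assoc, h4, mul_one]
        _ = B * M * M' := by rw [h]
        _ = B := by rw [mul_assoc, h4, mul_one]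
    rcases h2 with h2 | h2 <;> rcases h3 with h3 | h3
    · left; exact key _ _ (h2.symm.trans h3)
    · right; apply key; rw [neg_mul, ← h3, h2]
    · right; apply key; rw [neg_mul, ← h3, h2, neg_neg]
    · left; exact key _ _ (neg_injective (h2.symm.trans h3))
  · rintro ⟨γ, hγ⟩
    obtain ⟨l, hl, d, hd, δ, hδ, rfl⟩ := (hE γ).1 hγ
    obtain ⟨i, hi⟩ := hS hl i0
    rw [hi0] at hi
    refine ⟨i, ?_⟩
    show Cj (rho h9 ((t i : MulAut (PQ K))⁻¹ * (l * δ))) N0 N0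
    rw [rho_mul, rho_mul]
    exact ((cj_of_norm h9 (norm_res hδ)).mul hi).mul ((htt i).inv (rho_inv_mul h9 _) (rho_mul_inv h9 _))

end

end Cfsg.Agent.H753.P4
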