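import Cfsg.Agent.H753.P4.Orb

/-!
# S5210, q = 3: StThreeN (helper753)

The orbits of `± N₀` (the conjugates of `Aut_S(Q)`) under the six configurations: 4, 16, 16, 10, 10, 40.
-/

set_option autoImplicit false
set_option maxRecDepth 100000

namespace Cfsg.Agent.H753.P4

open Cfsg Cfsg.FusionSystem Cfsg.Agent.H776.P4
open Cfsg.Agent.H756.PU (HypK NormAut)

universe u

theorem tab_of_raw {n : ℕ} {ks : List (ZMod 3 × ZMod 3)} {L : Fin (n + 1) → Mat}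
    (nx : Fin ks.length → Fin (n + 1) → Fin (n + 1)) (n0 : Fin (n + 1) → Fin (n + 1)) (par : Fin (n + 1) → Fin (n + 1))
    (h0 : L 0 = N0) (h1 : ∀ i, Cj (1 + N0) (L i) (L (n0 i)))
    (h2 : ∀ k i, Cj (WM (ks.get k).1 (ks.get k).2) (L i) (L (nx k i))) (h3 : ∀ i j, Pm (L i) (L j) → i = j)
    (h4 : ∀ i, i = 0 ∨ (par i < i ∧ (n0 (par i) = i ∨ ∃ k, nx k (par i) = i))) : Tab ks L where
  reach := by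
    refine ⟨0, h0, fun S hS hx hw => ?_⟩
    intro j
    induction j using WellFoundedLT.induction with
    | ind j ih =>
      rcases h4 j with h | ⟨hlt, h | ⟨k, h⟩⟩
      · rw [h]; exact hS
      · have h5 := hx _ _ (ih _ hlt) (h1 (par j))
        rwa [h] at h5
      · have h5 := hw _ (List.get_mem ks k) _ _ (ih _ hlt) (h2 k (par j))
        rwa [h] at h5
  cx := fun i => ⟨_, h1 i⟩
  cw := by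
    intro κ hκ i
    obtain ⟨k, hk⟩ := List.mem_iff_get.1 hκ
    rw [← hk]
    exact ⟨_, h2 k i⟩
  dist := h3

/-- the points of the configuration 0 -/
def ks0 : List (ZMod 3 × ZMod 3) := [(0, 0)]

/-- the orbit of `± N₀` -/
def L0 : Fin (3 + 1) → Mat := ![
  !![0, 0, 0, 0; 0, 0, 0, 0; 1, 0, 0, 0; 0, 1, 0, 0],
  !![0, 0, 2, 0; 0, 0, 0, 2; 0, 0, 0, 0; 0, 0, 0, 0],
  !![1, 0, 2, 0; 0, 1, 0, 2; 1, 0, 2, 0; 0, 1, 0, 2],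
  !![2, 0, 2, 0; 0, 2, 0, 2; 1, 0, 1, 0; 0, 1, 0, 1]]

theorem tab0 : Tab ks0 L0 :=
  tab_of_raw
    (![![1, 0, 3, 2]] : Fin 1 → Fin (3 + 1) → Fin (3 + 1))
    ![0, 2, 3, 1]
    ![0, 0, 1, 2]
    (by decide +kernel) (by decide +kernel) (by decide +kernel) (by decide +kernel) (by decide +kernel)

/-- the points of the configuration 1 -/
def ks1 : List (ZMod 3 × ZMod 3) := [(0, 0), (1, 0), (2, 0)]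

/-- the orbit of `± N₀` -/
def L1 : Fin (15 + 1) → Mat := ![
  !![0, 0, 0, 0; 0, 0, 0, 0; 1, 0, 0, 0; 0, 1, 0, 0],
  !![0, 0, 2, 0; 0, 0, 0, 2; 0, 0, 0, 0; 0, 0, 0, 0],
  !![1, 0, 2, 0; 0, 2, 0, 2; 1, 0, 2, 0; 0, 1, 0, 1],
  !![2, 0, 2, 0; 0, 1, 0, 2; 1, 0, 1, 0; 0, 1, 0, 2],
  !![1, 0, 2, 0; 0, 1, 0, 2; 1, 0, 2, 0; 0, 1, 0, 2],
  !![2, 0, 2, 0; 0, 0, 0, 2; 1, 0, 1, 0; 0, 0, 0, 0],
  !![0, 0, 2, 0; 0, 2, 0, 2; 0, 0, 0, 0; 0, 1, 0, 1],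
  !![2, 0, 2, 0; 0, 2, 0, 2; 1, 0, 1, 0; 0, 1, 0, 1],
  !![0, 0, 0, 0; 0, 0, 0, 2; 1, 0, 0, 0; 0, 0, 0, 0],
  !![0, 0, 2, 0; 0, 0, 0, 0; 0, 0, 0, 0; 0, 1, 0, 0],
  !![0, 0, 2, 0; 0, 1, 0, 2; 0, 0, 0, 0; 0, 1, 0, 2],
  !![1, 0, 2, 0; 0, 0, 0, 0; 1, 0, 2, 0; 0, 1, 0, 0],
  !![0, 0, 0, 0; 0, 2, 0, 2; 1, 0, 0, 0; 0, 1, 0, 1],
  !![1, 0, 2, 0; 0, 0, 0, 2; 1, 0, 2, 0; 0, 0, 0, 0],
  !![0, 0, 0, 0; 0, 1, 0, 2; 1, 0, 0, 0; 0, 1, 0, 2],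
  !![2, 0, 2, 0; 0, 0, 0, 0; 1, 0, 1, 0; 0, 1, 0, 0]]

theorem tab1 : Tab ks1 L1 :=
  tab_of_raw
    (![![1, 0, 3, 2, 7, 11, 14, 4, 9, 8, 12, 5, 10, 15, 6, 13],
      ![2, 3, 0, 1, 8, 10, 15, 9, 4, 7, 5, 12, 11, 14, 13, 6],
      ![3, 2, 1, 0, 9, 12, 13, 8, 7, 4, 11, 10, 5, 6, 15, 14]] : Fin 3 → Fin (15 + 1) → Fin (15 + 1))
    ![0, 4, 5, 6, 7, 10, 13, 1, 14, 11, 2, 15, 8, 3, 12, 9]
    ![0, 0, 0, 0, 1, 2, 3, 4, 4, 4, 5, 5, 5, 6, 6, 6]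
    (by decide +kernel) (by decide +kernel) (by decide +kernel) (by decide +kernel) (by decide +kernel)

/-- the points of the configuration 2 -/
def ks2 : List (ZMod 3 × ZMod 3) := [(0, 0), (0, 1), (0, 2)]

/-- the orbit of `± N₀` -/
def L2 : Fin (15 + 1) → Mat := ![
  !![0, 0, 0, 0; 0, 0, 0, 0; 1, 0, 0, 0; 0, 1, 0, 0],
  !![0, 0, 2, 0; 0, 0, 0, 2; 0, 0, 0, 0; 0, 0, 0, 0],
  !![0, 1, 2, 0; 1, 0, 0, 2; 1, 0, 0, 2; 0, 1, 2, 0],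
  !![0, 2, 2, 0; 2, 0, 0, 2; 1, 0, 0, 1; 0, 1, 1, 0],
  !![1, 0, 2, 0; 0, 1, 0, 2; 1, 0, 2, 0; 0, 1, 0, 2],
  !![1, 1, 2, 0; 1, 1, 0, 2; 2, 2, 2, 2; 2, 2, 2, 2],
  !![1, 2, 2, 0; 2, 1, 0, 2; 2, 1, 2, 1; 1, 2, 1, 2],
  !![2, 0, 2, 0; 0, 2, 0, 2; 1, 0, 1, 0; 0, 1, 0, 1],
  !![0, 0, 1, 2; 0, 0, 2, 1; 2, 2, 0, 0; 2, 2, 0, 0],
  !![0, 0, 1, 1; 0, 0, 1, 1; 2, 1, 0, 0; 1, 2, 0, 0],
  !![2, 1, 2, 0; 1, 2, 0, 2; 2, 1, 1, 2; 1, 2, 2, 1],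
  !![2, 2, 1, 1; 2, 2, 1, 1; 1, 0, 1, 1; 0, 1, 1, 1],
  !![1, 2, 1, 2; 2, 1, 2, 1; 1, 0, 2, 1; 0, 1, 1, 2],
  !![2, 2, 2, 0; 2, 2, 0, 2; 2, 2, 1, 1; 2, 2, 1, 1],
  !![2, 1, 1, 2; 1, 2, 2, 1; 1, 0, 1, 2; 0, 1, 2, 1],
  !![1, 1, 1, 1; 1, 1, 1, 1; 1, 0, 2, 2; 0, 1, 2, 2]]

theorem tab2 : Tab ks2 L2 :=
  tab_of_raw
    (![![1, 0, 3, 2, 7, 11, 14, 4, 9, 8, 12, 5, 10, 15, 6, 13],
      ![2, 3, 0, 1, 8, 10, 15, 9, 4, 7, 5, 12, 11, 14, 13, 6],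
      ![3, 2, 1, 0, 9, 12, 13, 8, 7, 4, 11, 10, 5, 6, 15, 14]] : Fin 3 → Fin (15 + 1) → Fin (15 + 1))
    ![0, 4, 5, 6, 7, 10, 13, 1, 14, 11, 2, 15, 8, 3, 12, 9]
    ![0, 0, 0, 0, 1, 2, 3, 4, 4, 4, 5, 5, 5, 6, 6, 6]
    (by decide +kernel) (by decide +kernel) (by decide +kernel) (by decide +kernel) (by decide +kernel)

/-- the points of the configuration 3 -/
def ks3 : List (ZMod 3 × ZMod 3) := [(1, 1), (2, 2)]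

/-- the orbit of `± N₀` -/
def L3 : Fin (9 + 1) → Mat := ![
  !![0, 0, 0, 0; 0, 0, 0, 0; 1, 0, 0, 0; 0, 1, 0, 0],
  !![1, 1, 2, 0; 1, 2, 0, 2; 2, 0, 2, 2; 0, 2, 2, 1],
  !![2, 2, 2, 0; 2, 1, 0, 2; 2, 0, 1, 1; 0, 2, 1, 2],
  !![2, 1, 2, 0; 1, 0, 0, 2; 2, 2, 1, 2; 2, 1, 2, 0],
  !![0, 2, 2, 0; 2, 2, 0, 2; 1, 1, 0, 1; 1, 2, 1, 1],
  !![0, 1, 2, 0; 1, 1, 0, 2; 1, 1, 0, 2; 1, 2, 2, 2],
  !![1, 1, 2, 2; 1, 2, 2, 1; 1, 1, 2, 2; 1, 2, 2, 1],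
  !![1, 2, 2, 0; 2, 0, 0, 2; 2, 2, 2, 1; 2, 1, 1, 0],
  !![1, 1, 1, 1; 1, 2, 1, 2; 2, 2, 2, 2; 2, 1, 2, 1],
  !![0, 0, 1, 1; 0, 0, 1, 2; 0, 0, 0, 0; 0, 0, 0, 0]]

theorem tab3 : Tab ks3 L3 :=
  tab_of_raw
    (![![1, 0, 2, 5, 6, 3, 4, 8, 7, 9],
      ![2, 1, 0, 6, 7, 8, 3, 4, 5, 9]] : Fin 2 → Fin (9 + 1) → Fin (9 + 1))
    ![0, 3, 4, 5, 7, 1, 8, 2, 9, 6]
    ![0, 0, 0, 1, 2, 3, 3, 4, 5, 8]
    (by decide +kernel) (by decide +kernel) (by decide +kernel) (by decide +kernel) (by decide +kernel)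

/-- the points of the configuration 4 -/
def ks4 : List (ZMod 3 × ZMod 3) := [(1, 2), (2, 1)]

/-- the orbit of `± N₀` -/
def L4 : Fin (9 + 1) → Mat := ![
  !![0, 0, 0, 0; 0, 0, 0, 0; 1, 0, 0, 0; 0, 1, 0, 0],
  !![1, 2, 2, 0; 2, 2, 0, 2; 2, 0, 2, 1; 0, 2, 1, 1],
  !![2, 1, 2, 0; 1, 1, 0, 2; 2, 0, 1, 2; 0, 2, 2, 2],
  !![2, 2, 2, 0; 2, 0, 0, 2; 2, 1, 1, 1; 1, 1, 1, 0],
  !![0, 1, 2, 0; 1, 2, 0, 2; 1, 2, 0, 2; 2, 2, 2, 1],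
  !![0, 2, 2, 0; 2, 1, 0, 2; 1, 2, 0, 1; 2, 2, 1, 2],
  !![1, 2, 2, 1; 2, 2, 1, 1; 1, 2, 2, 1; 2, 2, 1, 1],
  !![1, 1, 2, 0; 1, 0, 0, 2; 2, 1, 2, 2; 1, 1, 2, 0],
  !![1, 2, 1, 2; 2, 2, 2, 2; 2, 1, 2, 1; 1, 1, 1, 1],
  !![0, 0, 1, 2; 0, 0, 2, 2; 0, 0, 0, 0; 0, 0, 0, 0]]

theorem tab4 : Tab ks4 L4 :=
  tab_of_raw
    (![![1, 0, 2, 5, 6, 3, 4, 8, 7, 9],
      ![2, 1, 0, 6, 7, 8, 3, 4, 5, 9]] : Fin 2 → Fin (9 + 1) → Fin (9 + 1))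
    ![0, 3, 4, 5, 7, 1, 8, 2, 9, 6]
    ![0, 0, 0, 1, 2, 3, 3, 4, 5, 8]
    (by decide +kernel) (by decide +kernel) (by decide +kernel) (by decide +kernel) (by decide +kernel)

/-- the points of the configuration 5 -/
def ks5 : List (ZMod 3 × ZMod 3) := [(0, 0), (1, 0), (2, 0), (0, 1), (0, 2)]

/-- the orbit of `± N₀` -/
def L5 : Fin (39 + 1) → Mat := ![
  !![0, 0, 0, 0; 0, 0, 0, 0; 1, 0, 0, 0; 0, 1, 0, 0],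
  !![0, 0, 2, 0; 0, 0, 0, 2; 0, 0, 0, 0; 0, 0, 0, 0],
  !![1, 0, 2, 0; 0, 2, 0, 2; 1, 0, 2, 0; 0, 1, 0, 1],
  !![2, 0, 2, 0; 0, 1, 0, 2; 1, 0, 1, 0; 0, 1, 0, 2],
  !![0, 1, 2, 0; 1, 0, 0, 2; 1, 0, 0, 2; 0, 1, 2, 0],
  !![0, 2, 2, 0; 2, 0, 0, 2; 1, 0, 0, 1; 0, 1, 1, 0],
  !![1, 0, 2, 0; 0, 1, 0, 2; 1, 0, 2, 0; 0, 1, 0, 2],
  !![2, 0, 2, 0; 0, 0, 0, 2; 1, 0, 1, 0; 0, 0, 0, 0],
  !![0, 0, 2, 0; 0, 2, 0, 2; 0, 0, 0, 0; 0, 1, 0, 1],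
  !![1, 1, 2, 0; 1, 1, 0, 2; 2, 2, 2, 2; 2, 2, 2, 2],
  !![1, 2, 2, 0; 2, 1, 0, 2; 2, 1, 2, 1; 1, 2, 1, 2],
  !![2, 0, 2, 0; 0, 2, 0, 2; 1, 0, 1, 0; 0, 1, 0, 1],
  !![0, 0, 0, 0; 0, 0, 0, 2; 1, 0, 0, 0; 0, 0, 0, 0],
  !![0, 0, 2, 0; 0, 0, 0, 0; 0, 0, 0, 0; 0, 1, 0, 0],
  !![0, 0, 1, 2; 0, 0, 2, 1; 2, 2, 0, 0; 2, 2, 0, 0],
  !![0, 0, 1, 1; 0, 0, 1, 1; 2, 1, 0, 0; 1, 2, 0, 0],
  !![0, 0, 2, 0; 0, 1, 0, 2; 0, 0, 0, 0; 0, 1, 0, 2],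
  !![1, 0, 2, 0; 0, 0, 0, 0; 1, 0, 2, 0; 0, 1, 0, 0],
  !![0, 0, 0, 0; 0, 2, 0, 2; 1, 0, 0, 0; 0, 1, 0, 1],
  !![2, 0, 1, 2; 2, 1, 2, 2; 1, 2, 1, 1; 2, 2, 0, 2],
  !![2, 0, 1, 1; 1, 1, 1, 2; 1, 1, 1, 2; 1, 2, 0, 2],
  !![1, 0, 2, 0; 0, 0, 0, 2; 1, 0, 2, 0; 0, 0, 0, 0],
  !![0, 0, 0, 0; 0, 1, 0, 2; 1, 0, 0, 0; 0, 1, 0, 2],
  !![2, 0, 2, 0; 0, 0, 0, 0; 1, 0, 1, 0; 0, 1, 0, 0],
  !![1, 2, 2, 2; 0, 2, 2, 1; 2, 2, 2, 0; 2, 1, 1, 1],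
  !![1, 1, 2, 1; 0, 2, 1, 1; 2, 1, 2, 0; 1, 1, 2, 1],
  !![2, 1, 2, 0; 1, 2, 0, 2; 2, 1, 1, 2; 1, 2, 2, 1],
  !![2, 2, 1, 1; 2, 2, 1, 1; 1, 0, 1, 1; 0, 1, 1, 1],
  !![1, 2, 1, 2; 2, 1, 2, 1; 1, 0, 2, 1; 0, 1, 1, 2],
  !![2, 2, 2, 0; 2, 2, 0, 2; 2, 2, 1, 1; 2, 2, 1, 1],
  !![2, 1, 1, 2; 1, 2, 2, 1; 1, 0, 1, 2; 0, 1, 2, 1],
  !![1, 1, 1, 1; 1, 1, 1, 1; 1, 0, 2, 2; 0, 1, 2, 2],
  !![2, 2, 2, 1; 0, 1, 1, 1; 2, 1, 1, 0; 1, 1, 1, 2],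
  !![2, 1, 2, 2; 0, 1, 2, 1; 2, 2, 1, 0; 2, 1, 2, 2],
  !![1, 0, 1, 2; 1, 2, 2, 2; 1, 2, 2, 2; 2, 2, 0, 1],
  !![1, 0, 1, 1; 2, 2, 1, 2; 1, 1, 2, 1; 1, 2, 0, 1],
  !![0, 1, 2, 1; 2, 0, 1, 1; 1, 2, 0, 1; 2, 2, 2, 0],
  !![0, 2, 2, 2; 1, 0, 2, 1; 1, 1, 0, 2; 1, 2, 1, 0],
  !![0, 1, 1, 2; 2, 0, 2, 2; 2, 1, 0, 1; 1, 1, 2, 0],
  !![0, 2, 1, 1; 1, 0, 1, 2; 2, 2, 0, 2; 2, 1, 1, 0]]

theorem tab5 : Tab ks5 L5 :=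
  tab_of_raw
    (![![1, 0, 3, 2, 5, 4, 11, 17, 22, 27, 30, 6, 13, 12, 15, 14, 18, 7, 16, 25, 24, 23, 8, 21, 20, 19, 28, 9, 26, 31, 10, 29, 34, 35, 32, 33, 36, 37, 38, 39],
      ![2, 3, 0, 1, 4, 5, 12, 16, 23, 19, 20, 13, 6, 11, 15, 14, 7, 18, 17, 9, 10, 22, 21, 8, 30, 27, 32, 25, 34, 33, 24, 35, 26, 29, 28, 31, 36, 37, 39, 38],
      ![3, 2, 1, 0, 4, 5, 13, 18, 21, 24, 25, 12, 11, 6, 15, 14, 17, 16, 7, 30, 27, 8, 23, 22, 9, 10, 35, 20, 33, 34, 19, 32, 31, 28, 29, 26, 37, 36, 38, 39],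
      ![4, 5, 2, 3, 0, 1, 14, 19, 24, 26, 31, 15, 13, 12, 6, 11, 32, 25, 34, 7, 22, 35, 20, 33, 8, 17, 9, 28, 27, 30, 29, 10, 16, 23, 18, 21, 36, 38, 37, 39],
      ![5, 4, 2, 3, 1, 0, 15, 20, 25, 28, 29, 14, 13, 12, 11, 6, 33, 24, 35, 22, 7, 34, 19, 32, 17, 8, 27, 26, 9, 10, 31, 30, 23, 16, 21, 18, 39, 37, 38, 36]] : Fin 5 → Fin (39 + 1) → Fin (39 + 1))
    ![0, 6, 7, 8, 9, 10, 11, 16, 21, 26, 29, 1, 22, 17, 30, 27, 2, 23, 12, 32, 33, 3, 18, 13, 35, 34, 4, 31, 14, 5, 28, 15, 36, 37, 38, 39, 19, 20, 25, 24]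
    ![0, 0, 0, 0, 0, 0, 1, 2, 3, 4, 5, 6, 6, 6, 6, 6, 7, 7, 7, 7, 7, 8, 8, 8, 8, 8, 9, 9, 9, 10, 10, 10, 16, 16, 18, 18, 32, 33, 34, 35]
    (by decide +kernel) (by decide +kernel) (by decide +kernel) (by decide +kernel) (by decide +kernel)

section
variable {K : Type u} [Field K] [StarRing K] [CharP K 3] {ι : K}

theorem el00 : el ι 0 0 = 0 := by simp [el]
theorem el10 : el ι 1 0 = 1 := by simp [el]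
theorem el01 : el ι 0 1 = ι := by simp [el]
theorem el11 : el ι 1 1 = 1 + ι := by simp [el]
theorem cs_two : cs K 2 = -1 := by
  have h : (2 : ZMod 3) = -1 := by decide
  rw [h, map_neg, map_one]
theorem el20 : el ι 2 0 = -1 := by unfold el; rw [cs_two, map_zero]; ring
theorem el02 : el ι 0 2 = -ι := by unfold el; rw [cs_two, map_zero]; ring
theorem el22 : el ι 2 2 = -(1 + ι) := by unfold el; rw [cs_two]; ring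
theorem el12 : el ι 1 2 = 1 - ι := by unfold el; rw [cs_two, map_one]; ring
theorem el21 : el ι 2 1 = -(1 - ι) := by unfold el; rw [cs_two, map_one]; ring

end

/-- **(3N)** -/
theorem stThreeN (hG : StGrp.{u}) : StThreeN.{u} := by
  intro K _ _ p n hK hq ι hι Γ D hpar _ T hP hE
  have hp : p = 3 := by
    have h1 : p ∣ 3 := by
      rw [← hq]
      exact dvd_pow_self p (Nat.one_le_iff_ne_zero.1 hK.hn)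
    exact (Nat.prime_dvd_prime_iff_eq hK.pp Nat.prime_three).1 h1
  subst hp
  obtain ⟨hc, -, -, hT, -⟩ := hG hK
  have hchar : CharP K 3 := hK.char
  have h9 : F9 ι :=
    { fin := hK.fin
      card := by rw [hK.card, hq]; norm_num
      st := fun x => by rw [hK.star_eq, hq]
      sq := hι }
  have h729 : Nat.card (PG K) = 729 := by rw [hc, hq]; norm_num
  have key : ∀ {m : ℕ} {ks : List (ZMod 3 × ZMod 3)} {L : Fin m → Mat}, Tab ks L →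
      (∀ x : K, x ∈ Pt Γ ↔ ∃ κ ∈ ks, x = el ι κ.1 κ.2) → Nat.card Γ = m * (243 * Nat.card D) :=
    fun ht h => card_Gamma h9 h729 hT hpar hE ht h
  rw [hP] at key
  have k0 : T = 0 → Nat.card Γ = 4 * (243 * Nat.card D) := by
    rintro rfl
    refine key tab0 fun x => ?_
    simp only [ks0, List.mem_cons, List.not_mem_nil, or_false, exists_eq_or_imp, exists_eq_left, el00]
    rfl
  have k1 : T = 1 → Nat.card Γ = 16 * (243 * Nat.card D) := by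
    rintro rfl
    refine key tab1 fun x => ?_
    simp only [ks1, List.mem_cons, List.not_mem_nil, or_false, exists_eq_or_imp, exists_eq_left, el00, el10, el20]
    rfl
  have k2 : T = 2 → Nat.card Γ = 16 * (243 * Nat.card D) := by
    rintro rfl
    refine key tab2 fun x => ?_
    simp only [ks2, List.mem_cons, List.not_mem_nil, or_false, exists_eq_or_imp, exists_eq_left, el00, el01, el02]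
    rfl
  have k3 : T = 3 → Nat.card Γ = 10 * (243 * Nat.card D) := by
    rintro rfl
    refine key tab3 fun x => ?_
    simp only [ks3, List.mem_cons, List.not_mem_nil, or_false, exists_eq_or_imp, exists_eq_left, el11, el22]
    rfl
  have k4 : T = 4 → Nat.card Γ = 10 * (243 * Nat.card D) := by
    rintro rfl
    refine key tab4 fun x => ?_
    simp only [ks4, List.mem_cons, List.not_mem_nil, or_false, exists_eq_or_imp, exists_eq_left, el12, el21]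
    rfl
  have k5 : T = 5 → Nat.card Γ = 40 * (243 * Nat.card D) := by
    rintro rfl
    refine key tab5 fun x => ?_
    simp only [ks5, List.mem_cons, List.not_mem_nil, or_false, exists_eq_or_imp, exists_eq_left, el00, el10, el20, el01, el02]
    rfl
  refine ⟨fun h => ?_, fun h => ?_, fun h => ?_, fun h => ?_⟩
  · rw [k0 h]; ring
  · rcases h with h | h
    · rw [k1 h]; ring
    · rw [k2 h]; ring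
  · rcases h with h | h
    · rw [k3 h]; ring
    · rw [k4 h]; ring
  · rw [k5 h]; ring

end Cfsg.Agent.H753.P4
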